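import Mathlib.AlgebraicGeometry.Morphisms.Separated
import Mathlib.AlgebraicGeometry.Morphisms.UniversallyClosed
import Mathlib.AlgebraicGeometry.Morphisms.Immersion
import Mathlib.AlgebraicGeometry.Morphisms.Integral
import Mathlib.AlgebraicGeometry.PullbackCarrier

set_option autoImplicit false
universe u
open CategoryTheory CategoryTheory.Limits AlgebraicGeometry

namespace Groth.Agent.MorE57

variable {S X Y : Scheme.{u}}

theorem range_diagonal_eq (p : X ⟶ S) (q : Y ⟶ S) (π : X ⟶ Y) [Surjective π] (w : π ≫ q = p) :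
    Set.range (pullback.diagonal q) =
      (pullback.map p p q q π π (𝟙 S) (by simp [w]) (by simp [w])) ''
        Set.range (pullback.diagonal p) := by
  have e : pullback.diagonal p ≫ pullback.map p p q q π π (𝟙 S) (by simp [w]) (by simp [w]) =
      π ≫ pullback.diagonal q := by
    apply pullback.hom_ext
    · rw [Category.assoc, Category.assoc, pullback.map, pullback.lift_fst, pullback.diagonal_fst,
        ← Category.assoc, pullback.diagonal_fst, Category.id_comp, Category.comp_id]
    · rw [Category.assoc, Category.assoc, pullback.map, pullback.lift_snd, pullback.diagonal_snd,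
        ← Category.assoc, pullback.diagonal_snd, Category.id_comp, Category.comp_id]
  rw [← Set.range_comp, ← TopCat.coe_comp, ← Scheme.Hom.comp_base, e, Scheme.Hom.comp_base,
    TopCat.coe_comp, Set.range_comp, π.surjective.range_eq, Set.image_univ]

theorem isSeparated_of_surjective (p : X ⟶ S) (q : Y ⟶ S) (π : X ⟶ Y) (w : π ≫ q = p)
    [Surjective π] [UniversallyClosed π] [IsSeparated p] : IsSeparated q := by
  refine ⟨IsClosedImmersion.of_isPreimmersion _ ?_⟩
  rw [range_diagonal_eq p q π w]
  have : UniversallyClosed (pullback.map p p q q π π (𝟙 S) (by simp [w]) (by simp [w])) :=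
    MorphismProperty.pullbackMap (P := @UniversallyClosed) (f := p) (g := p) (f' := q) (g' := q)
      (i₁ := π) (i₂ := π) (h₁ := inferInstance) (h₂ := inferInstance) (e₁ := w.symm) (e₂ := w.symm)
  exact (Scheme.Hom.isClosedMap _) _ (pullback.diagonal p).isClosedEmbedding.isClosed_range

theorem quasiSeparatedSpace_of_surjective (f : X ⟶ Y) [Surjective f] [QuasiCompact f]
    [QuasiSeparatedSpace X] : QuasiSeparatedSpace Y := by
  refine ⟨fun U V hU hUc hV hVc => ?_⟩
  have hc : ∀ W : Set Y, IsOpen W → IsCompact W → IsCompact (f ⁻¹' W) :=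
    fun W h1 h2 => QuasiCompact.isCompact_preimage W h1 h2
  have h := QuasiSeparatedSpace.inter_isCompact _ _ (hU.preimage f.continuous) (hc U hU hUc)
    (hV.preimage f.continuous) (hc V hV hVc)
  rw [← Set.preimage_inter] at h
  have h2 := h.image f.continuous
  rwa [Set.image_preimage_eq _ f.surjective] at h2

theorem isClosed_singleton_fibre (f : X ⟶ Y) [IsIntegralHom f] (x x' : X) (hs : x ⤳ x')
    (he : f x' = f x) : x' = x := by
  obtain ⟨_, ⟨V, hV, rfl⟩, hxV, -⟩ :=
    Y.isBasis_affineOpens.exists_subset_of_mem_open (Set.mem_univ (f x)) isOpen_univ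
  have hU : IsAffineOpen (f ⁻¹ᵁ V) := hV.preimage f
  have := hU.isOpenImmersion_fromSpec
  have := hV.isOpenImmersion_fromSpec
  have hφ : (f.appLE V (f ⁻¹ᵁ V) le_rfl).hom.IsIntegral := by
    rw [← Scheme.Hom.app_eq_appLE]; exact IsIntegralHom.isIntegral_app f V hV
  obtain ⟨p, rfl⟩ : x ∈ Set.range hU.fromSpec := hU.range_fromSpec.symm ▸ hxV
  obtain ⟨p', rfl⟩ : x' ∈ Set.range hU.fromSpec :=
    hU.range_fromSpec.symm ▸ (show x' ∈ (f ⁻¹ᵁ V : Set X) by
      show f x' ∈ V
      rw [he]; exact hxV)
  refine congrArg (fun z => hU.fromSpec z) ?_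
  have hs' : p ⤳ p' := hU.fromSpec.isOpenEmbedding.isInducing.specializes_iff.1 hs
  have e : ∀ z, hV.fromSpec (Spec.map (f.appLE V (f ⁻¹ᵁ V) le_rfl) z) = f (hU.fromSpec z) :=
    fun z => by
    rw [← Scheme.Hom.comp_apply, IsAffineOpen.SpecMap_appLE_fromSpec f hV hU le_rfl]
    rfl
  have e2 : Spec.map (f.appLE V (f ⁻¹ᵁ V) le_rfl) p' = Spec.map (f.appLE V (f ⁻¹ᵁ V) le_rfl) p :=
    hV.fromSpec.isOpenEmbedding.injective (by rw [e, e, he])
  have hle : PrimeSpectrum.asIdeal p ≤ PrimeSpectrum.asIdeal p' :=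
    (PrimeSpectrum.le_iff_specializes _ _).2 hs'
  letI := (f.appLE V (f ⁻¹ᵁ V) le_rfl).hom.toAlgebra
  have : Algebra.IsIntegral Γ(Y, V) Γ(X, f ⁻¹ᵁ V) := ⟨hφ⟩
  refine PrimeSpectrum.ext (hle.eq_or_lt.resolve_right fun hlt => ?_).symm
  have := PrimeSpectrum.isPrime p
  exact (Ideal.IsIntegral.comap_lt_comap (R := Γ(Y, V)) hlt).ne
    (congrArg PrimeSpectrum.asIdeal e2).symm

theorem topologicalKrullDim_le_of_isIntegralHom (f : X ⟶ Y) [IsIntegralHom f] :
    topologicalKrullDim ↥X ≤ topologicalKrullDim ↥Y ∧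
      (Surjective f → topologicalKrullDim ↥X = topologicalKrullDim ↥Y) := by
  let F : TopologicalSpace.IrreducibleCloseds ↥X → TopologicalSpace.IrreducibleCloseds ↥Y :=
    fun Z => ⟨f '' Z, Z.2.image f f.continuous.continuousOn, f.isClosedMap _ Z.3⟩
  have hF : StrictMono F := by
    intro Z Z' hlt
    refine lt_of_le_of_ne (Set.image_mono hlt.le) fun heq => ?_
    obtain ⟨z', hz'⟩ := QuasiSober.sober Z'.2 Z'.3
    have : f z' ∈ f '' (Z : Set X) := by
      rw [show f '' (Z : Set X) = f '' (Z' : Set X) from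
        congrArg (fun c : TopologicalSpace.IrreducibleCloseds ↥Y => (c : Set Y)) heq]
      exact ⟨z', hz'.mem, rfl⟩
    obtain ⟨z, hz, hze⟩ := this
    obtain rfl := isClosed_singleton_fibre f z' z (hz'.specializes (hlt.le hz)) hze
    exact hlt.not_ge fun a ha => closure_minimal (Set.singleton_subset_iff.2 hz) Z.3 (hz'.def.symm ▸ ha)
  refine ⟨Order.krullDim_le_of_strictMono F hF, fun hsurj =>
    le_antisymm (Order.krullDim_le_of_strictMono F hF) ?_⟩
  refine iSup_le fun s => ?_
  suffices key : ∀ s : LTSeries (TopologicalSpace.IrreducibleCloseds ↥Y),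
      ∃ t : LTSeries (TopologicalSpace.IrreducibleCloseds ↥X),
        t.length = s.length ∧ F t.head = s.head by
    obtain ⟨t, ht, -⟩ := key s
    exact ht ▸ Order.LTSeries.length_le_krullDim t
  intro s
  induction s using RelSeries.inductionOn with
  | singleton z =>
    obtain ⟨w, hw⟩ := QuasiSober.sober z.2 z.3
    obtain ⟨x, rfl⟩ := f.surjective w
    refine ⟨RelSeries.singleton _ ⟨closure {x}, isIrreducible_singleton.closure, isClosed_closure⟩,
      rfl, TopologicalSpace.IrreducibleCloseds.ext ?_⟩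
    show f '' closure {x} = (z : Set Y)
    rw [← f.isClosedMap.closure_image_eq_of_continuous f.continuous, Set.image_singleton]
    exact hw
  | cons s z hz ih =>
    obtain ⟨t, ht, hth⟩ := ih
    have hlz : z < s.head := hz
    obtain ⟨w, hw⟩ := QuasiSober.sober z.2 z.3
    obtain ⟨x, hx, rfl⟩ : w ∈ f '' (t.head : Set X) :=
      (show f '' (t.head : Set X) = (s.head : Set Y) from
        congrArg (fun c : TopologicalSpace.IrreducibleCloseds ↥Y => (c : Set Y)) hth) ▸ hlz.le hw.mem
    let Z : TopologicalSpace.IrreducibleCloseds ↥X :=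
      ⟨closure {x}, isIrreducible_singleton.closure, isClosed_closure⟩
    have hFZ : F Z = z := by
      refine TopologicalSpace.IrreducibleCloseds.ext ?_
      show f '' closure {x} = (z : Set Y)
      rw [← f.isClosedMap.closure_image_eq_of_continuous f.continuous, Set.image_singleton]
      exact hw
    have hlt : Z < t.head := by
      refine lt_of_le_of_ne (closure_minimal (Set.singleton_subset_iff.2 hx) t.head.3) fun he => ?_
      rw [← hth, ← he, hFZ] at hlz
      exact lt_irrefl _ hlz
    exact ⟨t.cons Z hlt, by simp [ht], by simpa using hFZ⟩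

end Groth.Agent.MorE57
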