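import Mathlib.AlgebraicGeometry.Morphisms.SchemeTheoreticallyDominant
import Mathlib.Algebra.DualNumber
import Mathlib.RingTheory.Spectrum.Prime.Topology

set_option autoImplicit false
universe u
open CategoryTheory AlgebraicGeometry

namespace Groth.Agent.MorE57

theorem cancel_of_surjective {X Y Z : Scheme.{u}} (φ : X ⟶ Y) [IsSchemeTheoreticallyDominant φ]
    [QuasiCompact φ] (hs : Function.Surjective φ) (a b : Y ⟶ Z) (h : φ ≫ a = φ ≫ b) : a = b := by
  have hbase : a.base = b.base := by
    apply TopCat.ext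
    intro y
    obtain ⟨x, rfl⟩ := hs y
    exact congr(($h).base x)
  refine Scheme.Hom.ext hbase fun U => ?_
  have hW : b ⁻¹ᵁ U ≤ a ⁻¹ᵁ U := by
    intro y hy
    show a y ∈ U
    rw [show a y = b y from congr(($hbase) y)]
    exact hy
  rw [show a.app U ≫ Y.presheaf.map (eqToHom _).op = a.appLE U (b ⁻¹ᵁ U) hW by
    rw [Scheme.Hom.appLE]; rfl, Scheme.Hom.app_eq_appLE]
  have key : ∀ (c : Y ⟶ Z) (hc : b ⁻¹ᵁ U ≤ c ⁻¹ᵁ U),
      c.appLE U (b ⁻¹ᵁ U) hc ≫ φ.app (b ⁻¹ᵁ U) =
        (φ ≫ c).appLE U (φ ⁻¹ᵁ (b ⁻¹ᵁ U)) (fun x hx => hc hx) := fun c hc => by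
    rw [Scheme.Hom.app_eq_appLE, Scheme.Hom.appLE_comp_appLE]
  ext s
  apply Scheme.Hom.app_injective φ
  have h1 := congr($(key a hW) s)
  have h2 := congr($(key b le_rfl) s)
  simp only [CommRingCat.comp_apply] at h1 h2
  rw [h1, h2]
  congr 3

variable (B : Type u) [CommRing B] (ψ : DualNumber B →+* DualNumber (DualNumber B))
  (hψB : ∀ b : B, ψ (algebraMap B (DualNumber B) b) = algebraMap B (DualNumber (DualNumber B)) b)
  (hψ : ψ DualNumber.eps = algebraMap (DualNumber B) (DualNumber (DualNumber B)) DualNumber.eps * DualNumber.eps)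

include hψB hψ

theorem dual_injective : Function.Injective ψ := by
  intro x y hxy
  have e : ∀ z : DualNumber B, (ψ z).fst.fst = z.fst ∧ (ψ z).snd.snd = z.snd := by
    intro z
    have hz : z = algebraMap B (DualNumber B) z.fst +
        algebraMap B (DualNumber B) z.snd * DualNumber.eps := by
      ext <;> simp [TrivSqZeroExt.algebraMap_eq_inl']
    rw [hz, map_add, map_mul, hψB, hψB, hψ]
    constructor <;> simp [TrivSqZeroExt.algebraMap_eq_inl']
  exact TrivSqZeroExt.ext ((e x).1.symm.trans ((congr(($hxy).fst.fst)).trans (e y).1))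
    ((e x).2.symm.trans ((congr(($hxy).snd.snd)).trans (e y).2))

theorem dual_comap_surjective :
    Function.Surjective (PrimeSpectrum.comap (R := DualNumber B) (S := DualNumber (DualNumber B)) ψ) := by
  let r : DualNumber (DualNumber B) →+* B := (TrivSqZeroExt.fstHom B B B).toRingHom.comp
    (TrivSqZeroExt.fstHom (DualNumber B) (DualNumber B) (DualNumber B)).toRingHom
  intro P
  refine ⟨PrimeSpectrum.comap r (PrimeSpectrum.comap (algebraMap B (DualNumber B)) P), ?_⟩
  ext x
  simp only [PrimeSpectrum.comap_asIdeal, Ideal.mem_comap]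
  have hz : x = algebraMap B (DualNumber B) x.fst +
      algebraMap B (DualNumber B) x.snd * DualNumber.eps := by
    ext <;> simp [TrivSqZeroExt.algebraMap_eq_inl']
  have hr : r (ψ x) = x.fst := by
    conv_lhs => rw [hz, map_add, map_mul, hψB, hψB, hψ]
    simp [r, TrivSqZeroExt.algebraMap_eq_inl']
  rw [hr]
  have he : DualNumber.eps ∈ P.asIdeal := P.isPrime.mem_of_pow_mem 2
    (by rw [DualNumber.eps_pow_two]; exact zero_mem _)
  constructor
  · intro h
    rw [hz]
    exact add_mem h (P.asIdeal.mul_mem_left _ he)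
  · intro h
    have := sub_mem h (P.asIdeal.mul_mem_left (algebraMap B (DualNumber B) x.snd) he)
    conv at this => arg 2; arg 1; rw [hz]
    simpa using this

theorem dual_precomp_injective (G : Scheme.{u}) :
    Function.Injective (fun a : Spec (CommRingCat.of (DualNumber B)) ⟶ G =>
      Spec.map (CommRingCat.ofHom (R := DualNumber B) (S := DualNumber (DualNumber B)) ψ) ≫ a) := by
  intro a b h
  let φ := Spec.map (CommRingCat.ofHom (R := DualNumber B) (S := DualNumber (DualNumber B)) ψ)
  have hdom : IsSchemeTheoreticallyDominant φ := ⟨by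
    apply Scheme.IdealSheafData.ext_of_isAffine
    rw [Scheme.Hom.ker_apply, Scheme.IdealSheafData.ideal_bot]
    refine (RingHom.injective_iff_ker_eq_bot _).1 ?_
    have hnat := Scheme.ΓSpecIso_naturality
      (CommRingCat.ofHom (R := DualNumber B) (S := DualNumber (DualNumber B)) ψ)
    intro s t hst
    apply (Scheme.ΓSpecIso (CommRingCat.of (DualNumber B))).commRingCatIsoToRingEquiv.injective
    apply dual_injective B ψ hψB hψ
    exact congr($hnat s).symm.trans
      ((congrArg (Scheme.ΓSpecIso (CommRingCat.of (DualNumber (DualNumber B)))).hom hst).trans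
        congr($hnat t))⟩
  exact cancel_of_surjective φ (dual_comap_surjective B ψ hψB hψ) a b h

end Groth.Agent.MorE57
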