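import Mathlib.Algebra.Lie.Basic
import Mathlib.LinearAlgebra.Basis.Basic
import Mathlib.Tactic.LinearCombination
import Mathlib.Tactic.Module
import Mathlib.Algebra.BigOperators.Fin

set_option autoImplicit false
universe u v

namespace Groth.Agent.MorE57

variable {A : Type u} [CommRing A] {L : Type v} [LieRing L] [LieAlgebra A L]
  (bs : Module.Basis (Fin 3) A L)

theorem coord3 (v : L) :
    v = bs.repr v 0 • bs 0 + bs.repr v 1 • bs 1 + bs.repr v 2 • bs 2 := by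
  conv_lhs => rw [← bs.sum_repr v, Fin.sum_univ_three]

theorem coord_eq {a b c a' b' c' : A}
    (h : a • bs 0 + b • bs 1 + c • bs 2 = a' • bs 0 + b' • bs 1 + c' • bs 2) :
    a = a' ∧ b = b' ∧ c = c' := by
  refine ⟨?_, ?_, ?_⟩
  · simpa [Finsupp.single_apply] using congr(bs.repr $h 0)
  · simpa [Finsupp.single_apply] using congr(bs.repr $h 1)
  · simpa [Finsupp.single_apply] using congr(bs.repr $h 2)

theorem lie_coord {q r : L} (h1 : ⁅bs 0, bs 1⁆ = q) (h2 : ⁅bs 0, bs 2⁆ = r)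
    (h3 : ⁅bs 1, bs 2⁆ = 0) (a b c a' b' c' : A) :
    ⁅a • bs 0 + b • bs 1 + c • bs 2, a' • bs 0 + b' • bs 1 + c' • bs 2⁆ =
      (a * b' - b * a') • q + (a * c' - c * a') • r := by
  have h1' : ⁅bs 1, bs 0⁆ = -q := by rw [← h1, lie_skew]
  have h2' : ⁅bs 2, bs 0⁆ = -r := by rw [← h2, lie_skew]
  have h3' : ⁅bs 2, bs 1⁆ = 0 := by rw [← lie_skew, h3, neg_zero]
  simp only [add_lie, lie_add, smul_lie, lie_smul, h1, h2, h3, h1', h2', h3', lie_self,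
    smul_zero, smul_smul]
  module

theorem lie_aut_coord {q r : L} (h1 : ⁅bs 0, bs 1⁆ = q) (h2 : ⁅bs 0, bs 2⁆ = r)
    (h3 : ⁅bs 1, bs 2⁆ = 0) (u₁ u₂ w₁ w₂ : A) (hq : q = u₁ • bs 1 + u₂ • bs 2)
    (hr : r = w₁ • bs 1 + w₂ • bs 2) (hy : ∀ φ : L ≃ₗ⁅A⁆ L, ∃ e f : A,
      φ (bs 1) = e • bs 1 + f • bs 2) (hz : ∀ φ : L ≃ₗ⁅A⁆ L, ∃ g i : A,
      φ (bs 2) = g • bs 1 + i • bs 2) (φ : L ≃ₗ⁅A⁆ L) :
    ∃ a b c e f g i : A, φ (bs 0) = a • bs 0 + b • bs 1 + c • bs 2 ∧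
      φ (bs 1) = e • bs 1 + f • bs 2 ∧ φ (bs 2) = g • bs 1 + i • bs 2 ∧
      IsUnit (e * i - f * g) ∧
      a * e * u₁ + a * f * w₁ = u₁ * e + u₂ * g ∧ a * e * u₂ + a * f * w₂ = u₁ * f + u₂ * i ∧
      a * g * u₁ + a * i * w₁ = w₁ * e + w₂ * g ∧ a * g * u₂ + a * i * w₂ = w₁ * f + w₂ * i := by
  obtain ⟨e, f, hef⟩ := hy φ
  obtain ⟨g, i, hgi⟩ := hz φ
  obtain ⟨e', f', hef'⟩ := hy φ.symm
  obtain ⟨g', i', hgi'⟩ := hz φ.symm
  have hφ : ∀ s t : A, φ (s • bs 1 + t • bs 2) = s • φ (bs 1) + t • φ (bs 2) := fun s t => by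
    show φ.toLieHom (s • bs 1 + t • bs 2) = _
    rw [map_add, map_smul, map_smul]; rfl
  have e1 := congrArg φ hef'
  have e2 := congrArg φ hgi'
  rw [LieEquiv.apply_symm_apply, hφ, hef, hgi] at e1 e2
  have c1 := coord_eq bs (a := 0) (b := 1) (c := 0) (a' := 0) (b' := e' * e + f' * g)
    (c' := e' * f + f' * i) (by linear_combination (norm := module) e1)
  have c2 := coord_eq bs (a := 0) (b := 0) (c := 1) (a' := 0) (b' := g' * e + i' * g)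
    (c' := g' * f + i' * i) (by linear_combination (norm := module) e2)
  have hdet : (e * i - f * g) * (e' * i' - f' * g') = 1 := by
    linear_combination -(g' * f + i' * i) * c1.2.1 + (g' * e + i' * g) * c1.2.2 - c2.2.2
  obtain ⟨a, b, c, habc⟩ : ∃ a b c : A, φ (bs 0) = a • bs 0 + b • bs 1 + c • bs 2 :=
    ⟨_, _, _, coord3 bs _⟩
  refine ⟨a, b, c, e, f, g, i, habc, hef, hgi, IsUnit.of_mul_eq_one _ hdet, ?_⟩
  have L1 := φ.toLieHom.map_lie (bs 0) (bs 1)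
  have L2 := φ.toLieHom.map_lie (bs 0) (bs 2)
  simp only [LieEquiv.coe_coe] at L1 L2
  rw [h1, hq, hφ, habc, hef, hgi] at L1
  rw [h2, hr, hφ, habc, hef, hgi] at L2
  have K := lie_coord bs h1 h2 h3 a b c 0
  have d1 := K e f
  have d2 := K g i
  simp only [zero_smul, zero_add, mul_zero, sub_zero, hq, hr] at d1 d2
  rw [d1] at L1
  rw [d2] at L2
  obtain ⟨-, p1, p2⟩ := coord_eq bs (a := 0) (b := u₁ * e + u₂ * g) (c := u₁ * f + u₂ * i)
    (a' := 0) (b' := a * e * u₁ + a * f * w₁) (c' := a * e * u₂ + a * f * w₂)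
    (by linear_combination (norm := module) L1)
  obtain ⟨-, p3, p4⟩ := coord_eq bs (a := 0) (b := w₁ * e + w₂ * g) (c := w₁ * f + w₂ * i)
    (a' := 0) (b' := a * g * u₁ + a * i * w₁) (c' := a * g * u₂ + a * i * w₂)
    (by linear_combination (norm := module) L2)
  exact ⟨p1.symm, p2.symm, p3.symm, p4.symm⟩

theorem span_of_lie {q r : L} (h1 : ⁅bs 0, bs 1⁆ = q) (h2 : ⁅bs 0, bs 2⁆ = r)
    (h3 : ⁅bs 1, bs 2⁆ = 0) (u₁ u₂ w₁ w₂ : A) (hq : q = u₁ • bs 1 + u₂ • bs 2)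
    (hr : r = w₁ • bs 1 + w₂ • bs 2) (v w : L) :
    ∃ s t : A, ⁅v, w⁆ = s • bs 1 + t • bs 2 := by
  let p := bs.repr v 0 * bs.repr w 1 - bs.repr v 1 * bs.repr w 0
  let p' := bs.repr v 0 * bs.repr w 2 - bs.repr v 2 * bs.repr w 0
  refine ⟨p * u₁ + p' * w₁, p * u₂ + p' * w₂, ?_⟩
  conv_lhs => rw [coord3 bs v, coord3 bs w, lie_coord bs h1 h2 h3, hq, hr]
  module

end Groth.Agent.MorE57
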