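import Mathlib.AlgebraicGeometry.AffineScheme
import Mathlib.AlgebraicGeometry.Properties
import Mathlib.Topology.KrullDimension
import Mathlib.RingTheory.Spectrum.Prime.Topology

set_option autoImplicit false
universe u
open CategoryTheory AlgebraicGeometry Topology

namespace Groth.Agent.MorE57

theorem generalizingMap_comap_of_isOpenMap {R A : Type u} [CommRing R] [CommRing A] (φ : R →+* A)
    (h : IsOpenMap (PrimeSpectrum.comap φ)) : GeneralizingMap (PrimeSpectrum.comap φ) := by
  intro p q hqp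
  change q ⤳ PrimeSpectrum.comap φ p at hqp
  have hdisj : Disjoint ((q.asIdeal.map φ : Ideal A) : Set A)
      (q.asIdeal.primeCompl.map φ ⊔ p.asIdeal.primeCompl : Submonoid A) := by
    refine Set.disjoint_left.2 fun x hx hx' => ?_
    obtain ⟨y, ⟨r, hr, rfl⟩, g, hg, rfl⟩ := Submonoid.mem_sup.1 hx'
    obtain ⟨P, hgP, hPq⟩ := hqp.mem_open (h _ (PrimeSpectrum.basicOpen g).isOpen)
      ⟨p, hg, rfl⟩
    have h1 : q.asIdeal.map φ ≤ P.asIdeal := Ideal.map_le_iff_le_comap.2
      (le_of_eq (congrArg PrimeSpectrum.asIdeal hPq).symm)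
    refine (P.isPrime.mem_or_mem (h1 hx)).elim (fun h2 => hr ?_) hgP
    rw [← hPq]
    exact h2
  obtain ⟨P, hP, hqP, hdP⟩ := Ideal.exists_le_prime_disjoint _ _ hdisj
  refine ⟨⟨P, hP⟩, (PrimeSpectrum.le_iff_specializes _ _).1 fun x hx => ?_, ?_⟩
  · by_contra hxp
    exact Set.disjoint_left.1 hdP hx (Submonoid.mem_sup_right hxp)
  · refine PrimeSpectrum.ext (le_antisymm (fun r hr => ?_) (Ideal.map_le_iff_le_comap.1 hqP))
    by_contra hrq
    exact Set.disjoint_left.1 hdP hr (Submonoid.mem_sup_left ⟨r, hrq, rfl⟩)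

theorem generalizingMap_of_isOpenMap {X Y : Scheme.{u}} (f : X ⟶ Y) (hf : IsOpenMap f.base) :
    GeneralizingMap f.base := by
  intro x y hy
  obtain ⟨_, ⟨V, hV, rfl⟩, hxV, -⟩ :=
    Y.isBasis_affineOpens.exists_subset_of_mem_open (Set.mem_univ (f x)) isOpen_univ
  obtain ⟨_, ⟨U, hU, rfl⟩, hxU, hUV⟩ :=
    X.isBasis_affineOpens.exists_subset_of_mem_open (show x ∈ f ⁻¹ᵁ V from hxV) (f ⁻¹ᵁ V).isOpen
  have := hU.isOpenImmersion_fromSpec
  have := hV.isOpenImmersion_fromSpec
  have e : ∀ z, hV.fromSpec (Spec.map (f.appLE V U hUV) z) = f (hU.fromSpec z) := fun z => by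
    rw [← Scheme.Hom.comp_apply, IsAffineOpen.SpecMap_appLE_fromSpec f hV hU hUV]
    rfl
  obtain ⟨p, rfl⟩ : x ∈ Set.range hU.fromSpec := hU.range_fromSpec.symm ▸ hxU
  have hopen : IsOpenMap (PrimeSpectrum.comap (f.appLE V U hUV).hom) := by
    intro s hs
    have h1 : IsOpen (f.base '' (hU.fromSpec '' s)) := hf _ (hU.fromSpec.isOpenEmbedding.isOpenMap _ hs)
    have h2 : hV.fromSpec.base ⁻¹' (f.base '' (hU.fromSpec '' s)) =
        PrimeSpectrum.comap (f.appLE V U hUV).hom '' s := by
      refine Set.ext fun w => ⟨?_, ?_⟩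
      · rintro ⟨_, ⟨z, hz, rfl⟩, hw⟩
        exact ⟨z, hz, hV.fromSpec.isOpenEmbedding.injective ((e z).trans hw)⟩
      · rintro ⟨z, hz, rfl⟩
        exact ⟨_, ⟨z, hz, rfl⟩, (e z).symm⟩
    have h3 := h1.preimage hV.fromSpec.continuous
    exact h2 ▸ h3
  have hyV : y ∈ V := Specializes.mem_open hy V.isOpen hxV
  obtain ⟨q, rfl⟩ : y ∈ Set.range hV.fromSpec := hV.range_fromSpec.symm ▸ hyV
  have hy' : q ⤳ PrimeSpectrum.comap (f.appLE V U hUV).hom p := by
    refine hV.fromSpec.isOpenEmbedding.isInducing.specializes_iff.1 ?_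
    exact (hy : hV.fromSpec q ⤳ f (hU.fromSpec p)).trans (specializes_of_eq (e p).symm)
  obtain ⟨P, hP, hPq⟩ := generalizingMap_comap_of_isOpenMap _ hopen hy'
  exact ⟨hU.fromSpec P, Specializes.map hP hU.fromSpec.continuous,
    ((e P).symm.trans (congrArg (fun t => hV.fromSpec t) hPq))⟩

theorem topologicalKrullDim_range_le {X Y : Type u} [TopologicalSpace X] [TopologicalSpace Y]
    [QuasiSober Y] {f : X → Y} (hf : Continuous f) (ho : IsOpenMap f) (hg : GeneralizingMap f) :
    topologicalKrullDim ↥(Set.range f) ≤ topologicalKrullDim X := by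
  have : QuasiSober ↥(Set.range f) := ho.isOpen_range.isOpenEmbedding_subtypeVal.quasiSober
  let pt : X → ↥(Set.range f) := fun x => ⟨f x, x, rfl⟩
  have hpt : Continuous pt := hf.subtype_mk _
  let mk : X → TopologicalSpace.IrreducibleCloseds X :=
    fun x => ⟨closure {x}, isIrreducible_singleton.closure, isClosed_closure⟩
  have key : ∀ s : LTSeries (TopologicalSpace.IrreducibleCloseds ↥(Set.range f)),
      ∃ t : LTSeries (TopologicalSpace.IrreducibleCloseds X), t.length = s.length ∧
        ∃ x, t.last = mk x ∧ closure {pt x} = (s.last : Set ↥(Set.range f)) := by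
    intro s
    induction s using RelSeries.inductionOn' with
    | singleton z =>
      obtain ⟨⟨_, x, rfl⟩, hx⟩ := QuasiSober.sober z.2 z.3
      exact ⟨RelSeries.singleton _ (mk x), rfl, x, rfl, hx⟩
    | snoc s z hz ih =>
      obtain ⟨t, ht, x, htx, hx⟩ := ih
      obtain ⟨w, hw⟩ := QuasiSober.sober z.2 z.3
      have hlz : s.last < z := hz
      have hxz : pt x ∈ (z : Set ↥(Set.range f)) :=
        hlz.le (show pt x ∈ (s.last : Set ↥(Set.range f)) from hx ▸ subset_closure rfl)
      have hwx : w.1 ⤳ f x := (hw.specializes hxz).map continuous_subtype_val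
      obtain ⟨x', hx', hfx'⟩ := hg hwx
      have hx'z : closure {pt x'} = (z : Set ↥(Set.range f)) := by
        rw [show pt x' = w from Subtype.ext hfx']; exact hw
      have hlt : t.last < mk x' := by
        rw [htx]
        refine lt_of_le_of_ne (fun a ha => ?_) fun heq => ?_
        · exact closure_minimal (Set.singleton_subset_iff.2
            ((specializes_iff_mem_closure.1 (show x' ⤳ x from hx')))) isClosed_closure ha
        · refine hlz.ne (TopologicalSpace.IrreducibleCloseds.ext ?_)
          have h4 : closure ({x} : Set X) = closure {x'} :=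
            congrArg (fun c : TopologicalSpace.IrreducibleCloseds X => (c : Set X)) heq
          have hs1 : x ⤳ x' := specializes_iff_mem_closure.2
            (h4.symm ▸ subset_closure (Set.mem_singleton x'))
          rw [← hx, ← hx'z]
          exact inseparable_iff_closure_eq.1 ((inseparable_iff_specializes_and.2
            ⟨hs1, show x' ⤳ x from hx'⟩).map hpt)
      refine ⟨t.snoc _ hlt, by simp [ht], x', by simp, ?_⟩
      simpa using hx'z
  exact iSup_le fun s => by
    obtain ⟨t, ht, -⟩ := key s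
    exact ht ▸ Order.LTSeries.length_le_krullDim t

end Groth.Agent.MorE57
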